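import Cfsg.Agent.H2.RegTwoSizes.Basic
import Cfsg.Agent.S0071

/-!
# Two sizes of `p`-regular classes: several primes besides `p` divide the size

The automiser of a centraliser acts on the abelian group of its `p`-regular elements with central
fixed points only. Elements of prime order other than `p` then normalise no nontrivial subgroup of
coprime order, and Frobenius' criterion rules out two such primes.
-/

set_option autoImplicit false
set_option linter.style.haveILetI false
set_option linter.unusedSectionVars false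

namespace H2.RegTwoSizes

open Subgroup

section Norm

variable {X T : Type*} [Group X] [Finite X] [CommGroup T]

/-- A fixed-point-free prime-order automiser of an abelian subgroup forces torsion modulo the
central part. -/
theorem pow_card_mem_of_fixed (φ : X →* MulAut T) (Z₀ : Subgroup T)
    (fix : ∀ u : X, u ≠ 1 → ∀ t : T, φ u t = t → t ∈ Z₀) {U : Subgroup X}
    (hUc : ∀ a ∈ U, ∀ b ∈ U, Commute a b) {q : ℕ} (hq : q.Prime) {g : X} (hg : orderOf g = q)
    (hUn : g ∈ normalizer (U : Set X)) (hfree : ∀ u ∈ U, Commute g u → u = 1) (hU : U ≠ ⊥)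
    (t : T) : t ^ Nat.card U ∈ Z₀ := by
  classical
  letI := Fintype.ofFinite U
  haveI := Fact.mk hq
  have hmem : ∀ (u : U) (i : ℕ), ((u : X) * g) ^ i * (g ^ i)⁻¹ ∈ U := by
    intro u i
    induction i with
    | zero => simp
    | succ i ih =>
      rw [show ((u : X) * g) ^ (i + 1) * (g ^ (i + 1))⁻¹ =
        (u : X) * (g * (((u : X) * g) ^ i * (g ^ i)⁻¹) * g⁻¹) by rw [pow_succ', pow_succ']; group]
      exact U.mul_mem u.2 ((mem_normalizer_iff.1 hUn _).1 ih)
  have hgU : g ∉ U := fun h => by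
    have := hfree g h (Commute.refl g)
    rw [this, orderOf_one] at hg
    exact hq.one_lt.ne hg
  have hq1 : g ^ q = 1 := hg ▸ pow_orderOf_eq_one g
  have hordq : ∀ u : U, ((u : X) * g) ^ q = 1 := by
    intro u
    have h1 := hmem u q
    rw [hq1, inv_one, mul_one] at h1
    refine hfree _ h1 ?_
    have h2 : Commute ((u : X) * g) (((u : X) * g) ^ q) := Commute.self_pow _ _
    have h3 : Commute (u : X) (((u : X) * g) ^ q) := hUc _ u.2 _ h1
    have h4 := h3.inv_left.mul_left h2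
    rwa [inv_mul_cancel_left] at h4
  have hne : ∀ u : U, (u : X) * g ≠ 1 := fun u h => hgU (by
    rw [eq_inv_of_mul_eq_one_right h]; exact U.inv_mem u.2)
  let N : U → T := fun u => ∏ i ∈ Finset.range q, φ (((u : X) * g) ^ i) t
  have hN : ∀ u : U, N u ∈ Z₀ := by
    intro u
    refine fix _ (hne u) _ ?_
    set v := (u : X) * g with hv
    show φ v (∏ i ∈ Finset.range q, φ (v ^ i) t) = ∏ i ∈ Finset.range q, φ (v ^ i) t
    have h1 : φ v (∏ i ∈ Finset.range q, φ (v ^ i) t) =
        ∏ i ∈ Finset.range q, φ (v ^ (i + 1)) t := by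
      rw [map_prod]
      refine Finset.prod_congr rfl fun i _ => ?_
      rw [pow_succ', map_mul φ v (v ^ i), MulAut.mul_apply]
    rw [h1]
    refine mul_right_cancel (b := φ (v ^ 0) t) ((Finset.prod_range_succ' (fun i => φ (v ^ i) t) q).symm.trans ?_)
    rw [Finset.prod_range_succ, hordq u, pow_zero]
  have hinj : ∀ i ∈ Finset.Ico 1 q, Function.Bijective
      (fun u : U => (⟨((u : X) * g) ^ i * (g ^ i)⁻¹, hmem u i⟩ : U)) := by
    intro i hi
    refine Finite.injective_iff_bijective.1 fun u v huv => ?_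
    have hw : ((u : X) * g) ^ i * (g ^ i)⁻¹ = ((v : X) * g) ^ i * (g ^ i)⁻¹ := congrArg Subtype.val huv
    set w := ((u : X) * g) ^ i * (g ^ i)⁻¹ with hwdef
    have hwU : w ∈ U := hmem u i
    have e1 : Commute ((u : X) * g) (w * g ^ i) := by
      rw [hwdef, inv_mul_cancel_right]; exact Commute.self_pow _ _
    have e2 : Commute ((v : X) * g) (w * g ^ i) := by
      rw [hw, inv_mul_cancel_right]; exact Commute.self_pow _ _
    set d := (u : X) * (v : X)⁻¹ with hd
    have hdU : d ∈ U := U.mul_mem u.2 (U.inv_mem v.2)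
    have e3 : Commute d (w * g ^ i) := by
      have h1 := e1.mul_left e2.inv_left
      rwa [show (u : X) * g * ((v : X) * g)⁻¹ = d by rw [hd]; group] at h1
    have e4 : Commute d (g ^ i) := by
      have h1 := (hUc d hdU w hwU).inv_right.mul_right e3
      rwa [inv_mul_cancel_left] at h1
    obtain ⟨j, hj⟩ := exists_pow_eq_self_of_coprime (x := g) (n := i) (by
      rw [hg]
      exact (hq.coprime_iff_not_dvd.2 (Nat.not_dvd_of_pos_of_lt (Finset.mem_Ico.1 hi).1
        (Finset.mem_Ico.1 hi).2)).symm)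
    exact Subtype.ext (mul_inv_eq_one.1 (hd ▸ hfree d hdU (hj ▸ (e4.pow_right j).symm)))
  obtain ⟨⟨v, hv⟩, hv'⟩ := Subgroup.ne_bot_iff_exists_ne_one.1 hU
  have hv1 : v ≠ 1 := fun e => hv' (Subtype.ext e)
  have hsum : ∀ s : T, ∏ u : U, φ (u : X) s ∈ Z₀ := by
    intro s
    refine fix v hv1 _ ?_
    rw [map_prod]
    refine Fintype.prod_equiv (Equiv.mulLeft (⟨v, hv⟩ : U)) _ _ fun u => ?_
    rw [Equiv.coe_mulLeft, Subgroup.coe_mul, map_mul, MulAut.mul_apply]
  have hrest : ∏ i ∈ Finset.Ico 1 q, ∏ u : U, φ (((u : X) * g) ^ i) t ∈ Z₀ := by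
    refine Z₀.prod_mem fun i hi => ?_
    have := Fintype.prod_bijective _ (hinj i hi) (fun u : U => φ (((u : X) * g) ^ i) t)
      (fun w : U => φ ((w : X) * g ^ i) t) fun u => by
        show _ = φ (((u : X) * g) ^ i * (g ^ i)⁻¹ * g ^ i) t
        rw [inv_mul_cancel_right]
    rw [this]
    refine (congrArg (· ∈ Z₀) (Finset.prod_congr rfl fun w _ => ?_)).mpr (hsum (φ (g ^ i) t))
    rw [map_mul]
    rfl
  have htot : ∏ u : U, N u ∈ Z₀ := Z₀.prod_mem fun u _ => hN u
  rw [Finset.prod_comm, Finset.range_eq_Ico,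
    Finset.prod_eq_prod_Ico_succ_bot hq.pos] at htot
  have h0 : ∏ u : U, φ (((u : X) * g) ^ 0) t = t ^ Nat.card U := by
    simp [Nat.card_eq_fintype_card]
  rw [h0] at htot
  exact (Z₀.mul_mem_cancel_right hrest).1 htot

end Norm

variable {G : Type*} [Group G] [Finite G] {p m : ℕ}

theorem act_of_dvd (hp : p.Prime) (h : HasSize G p m) {x : G} (hx : (orderOf x).Coprime p)
    (hxc : x ∉ center G) {q : ℕ} [Fact q.Prime] (hqm : q ∣ m) : Act G q := by
  obtain ⟨Q⟩ : Nonempty (Sylow q G) := inferInstance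
  obtain ⟨y, hy, hyc⟩ : ∃ y ∈ (Q : Subgroup G), y ∉ center G := by
    refine SetLike.not_le_iff_exists.1 fun hle => ?_
    refine Q.not_dvd_index (hqm.trans (h x hx hxc ▸ index_dvd_of_le fun g hg => ?_))
    exact H27.mem_cent.2 (Subgroup.mem_center_iff.1 (hle hg) x).symm
  obtain ⟨k, hk⟩ := IsPGroup.iff_orderOf.1 Q.isPGroup' ⟨y, hy⟩
  exact ⟨y, hyc, k, by rwa [Subgroup.orderOf_mk] at hk⟩

/-- Two primes other than `p` cannot divide the class size. -/
theorem false_two_primes (hp : p.Prime) (h : HasSize G p m) (hM : Multi G p) {x : G}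
    (hx : (orderOf x).Coprime p) (hxc : x ∉ center G) {q r : ℕ} (hq : q.Prime) (hqp : q ≠ p)
    (hqm : q ∣ m) (hr : r.Prime) (hrp : r ≠ p) (hrm : r ∣ m) (hqr : q ≠ r) : False := by
  classical
  haveI := Fact.mk hp
  set C := centralizer ({x} : Set G) with hC
  set N := normalizer (C : Set G) with hN
  have hCN : C ≤ N := le_normalizer
  haveI hCn : (C.subgroupOf N).Normal := Subgroup.normal_subgroupOf_of_le_normalizer le_rfl
  -- the abelian group of `p`-regular elements of `C`
  have hcomm : ∀ y ∈ C, (orderOf y).Coprime p → ∀ z ∈ C, Commute y z := fun y hy hyr z hz =>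
    commute_of_mem_cent hp h hM hx hxc hy hyr hz
  let T : Subgroup G :=
    { carrier := {y | y ∈ C ∧ (orderOf y).Coprime p}
      one_mem' := ⟨C.one_mem, by simp⟩
      mul_mem' := fun {y z} hy hz => ⟨C.mul_mem hy.1 hz.1,
        Nat.Coprime.coprime_dvd_left (hcomm y hy.1 hy.2 z hz.1).orderOf_mul_dvd_lcm
          (Nat.Coprime.coprime_dvd_left (Nat.lcm_dvd_mul _ _) (hy.2.mul_left hz.2))⟩
      inv_mem' := fun {y} hy => ⟨C.inv_mem hy.1, by rw [orderOf_inv]; exact hy.2⟩ }
  letI : CommGroup T := { (inferInstance : Group T) with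
    mul_comm := fun a b => Subtype.ext (hcomm a a.2.1 a.2.2 b b.2.1) }
  have hTn : ∀ n ∈ N, ∀ y ∈ T, n * y * n⁻¹ ∈ T := fun n hn y hy =>
    ⟨(mem_normalizer_iff.1 hn y).1 hy.1, by rw [← MulAut.conj_apply, MulEquiv.orderOf_eq]; exact hy.2⟩
  let f : N →* MulAut T :=
    { toFun := fun n =>
        { toFun := fun y => ⟨(n : G) * y * (n : G)⁻¹, hTn n n.2 y y.2⟩
          invFun := fun y => ⟨(n : G)⁻¹ * y * ((n : G)⁻¹)⁻¹, hTn _ (N.inv_mem n.2) y y.2⟩
          left_inv := fun y => Subtype.ext (by simp [mul_assoc])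
          right_inv := fun y => Subtype.ext (by simp [mul_assoc])
          map_mul' := fun y z => Subtype.ext (by simp [mul_assoc]) }
      map_one' := MulEquiv.ext fun y => Subtype.ext (by simp)
      map_mul' := fun a b => MulEquiv.ext fun y => Subtype.ext (by simp [mul_assoc]) }
  have hfC : C.subgroupOf N ≤ f.ker := fun n hn => MulEquiv.ext fun y => Subtype.ext (by
    show (n : G) * y * (n : G)⁻¹ = y
    rw [← (hcomm y y.2.1 y.2.2 n hn).eq, mul_inv_cancel_right])
  let φ : N ⧸ C.subgroupOf N →* MulAut T := QuotientGroup.lift _ f hfC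
  set Z₀ : Subgroup T := (center G).subgroupOf T
  have hZfix : ∀ (u : N ⧸ C.subgroupOf N), ∀ t ∈ Z₀, φ u t = t := by
    intro u t ht
    obtain ⟨n, rfl⟩ := QuotientGroup.mk_surjective u
    exact Subtype.ext (by
      show (n : G) * t * (n : G)⁻¹ = t
      rw [Subgroup.mem_center_iff.1 (mem_subgroupOf.1 ht) n, mul_inv_cancel_right])
  have fix : ∀ u : N ⧸ C.subgroupOf N, u ≠ 1 → ∀ t : T, φ u t = t → t ∈ Z₀ := by
    intro u hu t ht
    obtain ⟨n, rfl⟩ := QuotientGroup.mk_surjective u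
    by_contra htc
    refine hu ((QuotientGroup.eq_one_iff n).2 (mem_subgroupOf.2 ?_))
    have h1 : (n : G) * t * (n : G)⁻¹ = t := congrArg Subtype.val ht
    rw [hC, cent_eq_of_commute hp h hM hx hxc t.2.2 (fun e => htc (mem_subgroupOf.2 e))
      (H27.mem_cent_comm.1 t.2.1)]
    exact H27.mem_cent.2 (mul_inv_eq_iff_eq_mul.1 h1)
  -- commuting with an element of prime order
  have hcommute : ∀ (s : ℕ), s.Prime → s ≠ p → Act G s → ∀ g u : N ⧸ C.subgroupOf N,
      orderOf g = s → (orderOf u).Coprime s → Commute g u → u = 1 := by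
    intro s hs hsp hact g u hg hu hgu
    haveI := Fact.mk hs
    obtain ⟨g', hg'g, k, hk⟩ := H27.exists_lift_pElement (C.subgroupOf N) (a := g) (k := 1)
      (by rw [hg, pow_one])
    obtain ⟨S, hS⟩ := (IsPGroup.of_card (n := k) (by rw [Nat.card_zpowers, hk]) :
      IsPGroup s (zpowers g')).exists_le_sylow
    set S' := (S : Subgroup N).map N.subtype with hS'
    have hS'p : IsPGroup s S' := S.isPGroup'.map _
    have hS'N : S' ≤ N := map_subtype_le _
    obtain ⟨y, hy, hyc, j, hj⟩ := exists_act_in_cent hp h hx hxc hs hsp hact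
    obtain ⟨Sy, hSy⟩ := (IsPGroup.of_card (n := j) (by rw [Nat.card_zpowers, Subgroup.orderOf_mk, hj]) :
      IsPGroup s (zpowers (⟨y, hCN hy⟩ : N))).exists_le_sylow
    obtain ⟨n, hn⟩ := MulAction.exists_smul_eq N Sy S
    have hy' : (n : G) * y * (n : G)⁻¹ ∈ S' ⊓ C := by
      refine ⟨⟨n * ⟨y, hCN hy⟩ * n⁻¹, ?_, rfl⟩, (mem_normalizer_iff.1 n.2 y).1 hy⟩
      rw [← hn, Sylow.coe_subgroup_smul, ← MulAut.conj_apply]
      exact Subgroup.smul_mem_pointwise_smul _ _ _ (hSy (mem_zpowers _))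
    have hy'c : (n : G) * y * (n : G)⁻¹ ∉ center G := fun e => hyc (by
      have := (inferInstance : (center G).Normal).conj_mem _ e (n : G)⁻¹
      rwa [show (n : G)⁻¹ * ((n : G) * y * (n : G)⁻¹) * ((n : G)⁻¹)⁻¹ = y by group] at this)
    obtain ⟨d, hd, hdc, hdS⟩ := exists_central_mod (A := S' ⊓ C) hS'p (hS'p.to_le inf_le_left)
      (fun z hz => mem_normalizer_fintype fun w hw =>
        ⟨S'.mul_mem (S'.mul_mem hz hw.1) (S'.inv_mem hz), (mem_normalizer_iff.1 (hS'N hz) w).1 hw.2⟩)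
      fun hle => hy'c (hle hy')
    obtain ⟨e, he⟩ := IsPGroup.iff_orderOf.1 hS'p ⟨d, hd.1⟩
    rw [Subgroup.orderOf_mk] at he
    set t : T := ⟨d, hd.2, regular_of_primeOrder hs hp hsp he⟩ with ht
    have hgS : (g' : G) ∈ S' := ⟨g', hS (mem_zpowers g'), rfl⟩
    have hc : φ g t * t⁻¹ ∈ Z₀ := by
      rw [← hg'g, mem_subgroupOf]
      exact hdS _ hgS
    have hfixed : φ g (φ u t * t⁻¹) = φ u t * t⁻¹ := by
      have e1 : φ g (φ u t) = φ u (φ g t) := by
        show (φ g * φ u) t = (φ u * φ g) t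
        rw [← map_mul, ← map_mul, hgu.eq]
      have e2 : φ g t = (φ g t * t⁻¹) * t := (inv_mul_cancel_right _ _).symm
      rw [map_mul, map_inv, e1]
      conv_lhs => rw [e2, map_mul, hZfix u _ hc]
      rw [mul_inv_rev, mul_comm (φ g t * t⁻¹) (φ u t), mul_assoc]
      congr 1
      rw [mul_left_comm, mul_inv_cancel, mul_one]
    set w := φ u t * t⁻¹ with hwdef
    have hw : w ∈ Z₀ := by
      refine fix g (fun e => ?_) _ hfixed
      rw [e, orderOf_one] at hg
      exact hs.one_lt.ne hg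
    have hit : ∀ i : ℕ, φ (u ^ i) t = w ^ i * t := by
      intro i
      induction i with
      | zero => simp
      | succ i ih =>
        rw [pow_succ', map_mul]
        show φ u (φ (u ^ i) t) = _
        rw [ih, map_mul, hZfix u _ (Z₀.pow_mem hw i), pow_succ, mul_assoc, hwdef, inv_mul_cancel_right]
    have hw1 : w ^ orderOf u = 1 := by
      have := hit (orderOf u)
      rw [pow_orderOf_eq_one, map_one] at this
      exact mul_eq_right.1 this.symm
    have htord : t ^ s ^ e = 1 := by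
      apply Subtype.ext
      show d ^ s ^ e = 1
      rw [← he, pow_orderOf_eq_one]
    have hw2 : w ^ s ^ e = 1 := by
      rw [hwdef, mul_pow, inv_pow, ← map_pow, htord, map_one, inv_one, mul_one]
    have hw0 : w = 1 := by
      rw [← pow_one w, ← (hu.pow_right e).gcd_eq_one]
      exact pow_gcd_eq_one.2 ⟨hw1, hw2⟩
    by_contra hu1
    have := fix u hu1 t (mul_inv_eq_one.1 hw0)
    exact hdc (mem_subgroupOf.1 this)
  -- primes other than `p` dividing the automiser
  have hprimes : ∀ s : ℕ, s.Prime → s ∣ Nat.card (N ⧸ C.subgroupOf N) → s ∣ m := by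
    intro s _ hd
    refine hd.trans ?_
    rw [← index_eq_card, ← h x hx hxc, ← hC]
    exact relIndex_dvd_index_of_le hCN
  -- no prime-order element normalises a coprime subgroup
  have hB : ∀ (s : ℕ), s.Prime → s ≠ p → ∀ (g : N ⧸ C.subgroupOf N) (U : Subgroup (N ⧸ C.subgroupOf N)),
      orderOf g = s → ¬ s ∣ Nat.card U → g ∈ normalizer (U : Set (N ⧸ C.subgroupOf N)) → U = ⊥ := by
    intro s hs hsp g U hg hsU hgU
    haveI := Fact.mk hs
    have hact : Act G s := act_of_dvd hp h hx hxc (hprimes s hs (hg ▸ orderOf_dvd_natCard g))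
    by_contra hU
    set l := (Nat.card U).minFac
    have hU1 : Nat.card U ≠ 1 := fun e => hU (Subgroup.eq_bot_of_card_eq _ e)
    haveI : Fact l.Prime := ⟨Nat.minFac_prime hU1⟩
    have hcop : (Nat.card (zpowers g)).Coprime (Nat.card U) := by
      rw [Nat.card_zpowers, hg]; exact hs.coprime_iff_not_dvd.2 hsU
    obtain ⟨P, hP⟩ := H1.exists_invariant_sylow (A := zpowers g) (K := U) (zpowers_le.2 hgU) hcop
      (Or.inl (Group.isSolvable_of_comm fun a b => Std.Commutative.comm (op := (· * ·)) a b)) l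
    set P' := (P : Subgroup U).map U.subtype with hP'
    have hP'U : P' ≤ U := map_subtype_le _
    haveI : Nontrivial P' := by
      rw [Subgroup.nontrivial_iff_ne_bot]
      intro e
      rw [hP', Subgroup.map_eq_bot_iff_of_injective _ U.subtype_injective] at e
      refine P.not_dvd_index ?_
      rw [e, index_bot]
      exact Nat.minFac_dvd _
    have hP'p : IsPGroup l P' := P.isPGroup'.map _
    set W := (center P').map P'.subtype with hW
    have hWP : W ≤ P' := map_subtype_le _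
    have hW1 : W ≠ ⊥ := by
      rw [hW, Ne, Subgroup.map_eq_bot_iff_of_injective _ P'.subtype_injective]
      exact (Subgroup.nontrivial_iff_ne_bot _).1 hP'p.center_nontrivial
    have hgW : g ∈ normalizer (W : Set (N ⧸ C.subgroupOf N)) := by
      have hgP := hP (mem_zpowers g)
      refine mem_normalizer_fintype fun z hz => ?_
      obtain ⟨z, hz, rfl⟩ := hz
      refine ⟨⟨g * z * g⁻¹, (mem_normalizer_iff.1 hgP _).1 z.2⟩, Subgroup.mem_center_iff.2 fun y =>
        Subtype.ext ?_, rfl⟩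
      have h1 := congrArg Subtype.val (Subgroup.mem_center_iff.1 hz
        ⟨g⁻¹ * y * g, (mem_normalizer_iff''.1 hgP _).1 y.2⟩)
      simp only [Subgroup.coe_mul] at h1
      calc (y : N ⧸ C.subgroupOf N) * (g * z * g⁻¹) = g * (g⁻¹ * y * g * z) * g⁻¹ := by group
        _ = g * (z * (g⁻¹ * y * g)) * g⁻¹ := by rw [h1]
        _ = g * z * g⁻¹ * y := by group
    have hWc : ∀ a ∈ W, ∀ b ∈ W, Commute a b := by
      rintro _ ⟨a, ha, rfl⟩ _ ⟨b, hb, rfl⟩
      exact congrArg Subtype.val (Subgroup.mem_center_iff.1 hb a)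
    have hWp : IsPGroup l W := hP'p.to_le hWP
    have hls : l ≠ s := fun e => hsU (e ▸ Nat.minFac_dvd _)
    have hfree : ∀ u ∈ W, Commute g u → u = 1 := by
      intro u hu hgu
      refine hcommute s hs hsp hact g u hg ?_ hgu
      obtain ⟨i, hi⟩ := IsPGroup.iff_orderOf.1 hWp ⟨u, hu⟩
      rw [Subgroup.orderOf_mk] at hi
      rw [hi]
      exact ((Nat.coprime_primes (Fact.out) hs).2 hls).pow_left i
    obtain ⟨b, hbp, hbl, hbact⟩ : ∃ b : ℕ, (b.Prime ∧ b ≠ p) ∧ b ≠ l ∧ Act G b := by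
      obtain ⟨b, h1, h2, h3, h4⟩ := hM l
      exact ⟨b, ⟨h1, h2⟩, h3, h4⟩
    obtain ⟨y, hy, hyc, j, hj⟩ := exists_act_in_cent hp h hx hxc hbp.1 hbp.2 hbact
    set t : T := ⟨y, hy, regular_of_primeOrder hbp.1 hp hbp.2 hj⟩
    have h1 := pow_card_mem_of_fixed φ Z₀ fix hWc hs hg hgW hfree hW1 t
    obtain ⟨i, hi⟩ := IsPGroup.iff_card.1 hWp
    rw [mem_subgroupOf, hi] at h1
    refine hyc ?_
    obtain ⟨n, hn⟩ := exists_pow_eq_self_of_coprime (x := y) (n := l ^ i) (by
      rw [hj]
      exact Nat.Coprime.pow i j ((Nat.coprime_primes Fact.out hbp.1).2 hbl.symm))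
    exact hn ▸ pow_mem h1 n
  -- elements outside `C` in `N` for each prime of the size
  have hexists : ∀ s : ℕ, s.Prime → s ≠ p → s ∣ m → s ∣ Nat.card (N ⧸ C.subgroupOf N) := by
    intro s hs hsp hsm
    haveI := Fact.mk hs
    obtain ⟨y, hy, hyc, j, hj⟩ :=
      exists_act_in_cent hp h hx hxc hs hsp (act_of_dvd hp h hx hxc hsm)
    obtain ⟨A', hA'⟩ := (IsPGroup.of_card (n := j) (by rw [Nat.card_zpowers, Subgroup.orderOf_mk, hj]) :
      IsPGroup s (zpowers (⟨y, hy⟩ : C))).exists_le_sylow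
    set A := (A' : Subgroup C).map C.subtype with hA
    have hyA : y ∈ A := ⟨⟨y, hy⟩, hA' (mem_zpowers _), rfl⟩
    have hAp : IsPGroup s A := A'.isPGroup'.map _
    have hCA : C = centralizer (A : Set G) := by
      refine le_antisymm (fun c hc => mem_centralizer_iff.2 fun a ha => ?_) ?_
      · obtain ⟨i, hi⟩ := IsPGroup.iff_orderOf.1 hAp ⟨a, ha⟩
        rw [Subgroup.orderOf_mk] at hi
        exact hcomm a (map_subtype_le _ ha) (regular_of_primeOrder hs hp hsp hi) c hc
      · rw [hC, cent_eq_of_commute hp h hM hx hxc (regular_of_primeOrder hs hp hsp hj) hyc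
          (H27.mem_cent_comm.1 hy)]
        exact centralizer_le (Set.singleton_subset_iff.2 hyA)
    obtain ⟨S, hS⟩ := hAp.exists_le_sylow
    obtain ⟨g, hgS, hgn, hgA⟩ : ∃ g ∈ (S : Subgroup G), g ∈ normalizer (A : Set G) ∧ g ∉ A := by
      haveI : Group.IsNilpotent (S : Subgroup G) := S.isPGroup'.isNilpotent
      have hlt : A.subgroupOf (S : Subgroup G) < ⊤ := by
        refine lt_top_iff_ne_top.2 fun e => ?_
        rw [subgroupOf_eq_top] at e
        refine S.not_dvd_index (hsm.trans ?_)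
        rw [← h x hx hxc]
        exact index_dvd_of_le (e.trans (map_subtype_le _))
      obtain ⟨g, hg, hg'⟩ := SetLike.exists_of_lt (Group.normalizerCondition_of_isNilpotent _ hlt)
      refine ⟨g, g.2, mem_normalizer_fintype fun a ha => ?_, hg'⟩
      have := (mem_normalizer_iff.1 hg (⟨a, hS ha⟩ : (S : Subgroup G))).1 (mem_subgroupOf.2 ha)
      exact mem_subgroupOf.1 this
    have hgN : g ∈ N := by
      rw [hN, hCA]
      exact H75.normalizer_le_normalizer_centralizer A hgn
    have hgC : g ∉ C := by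
      intro hgC
      have hp' : IsPGroup s ((S : Subgroup G).subgroupOf C) := by
        refine S.isPGroup'.of_injective ((C.subtype.comp ((S : Subgroup G).subgroupOf C).subtype).codRestrict _
          fun a => a.2) fun a b e => Subtype.ext (Subtype.ext ?_)
        exact congrArg (fun z : (S : Subgroup G) => (z : G)) e
      have h1 := A'.3 hp' fun a ha => hS ⟨a, ha, rfl⟩
      exact hgA ⟨⟨g, hgC⟩, h1 ▸ (mem_subgroupOf.2 hgS : (⟨g, hgC⟩ : C) ∈ (S : Subgroup G).subgroupOf C), rfl⟩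
    obtain ⟨i, hi⟩ := IsPGroup.iff_orderOf.1 S.isPGroup' ⟨g, hgS⟩
    rw [Subgroup.orderOf_mk] at hi
    have hd : orderOf ((⟨g, hgN⟩ : N) : N ⧸ C.subgroupOf N) ∣ s ^ i := by
      refine (orderOf_map_dvd (QuotientGroup.mk' _) _).trans ?_
      rw [Subgroup.orderOf_mk, hi]
    obtain ⟨i', -, hi'⟩ := (Nat.dvd_prime_pow hs).1 hd
    rcases i' with - | i'
    · exact absurd (mem_subgroupOf.1 ((QuotientGroup.eq_one_iff _).1 (orderOf_eq_one_iff.1 hi'))) hgC
    · exact ((dvd_pow_self s (Nat.succ_ne_zero i')).trans hi'.symm.dvd).trans (orderOf_dvd_natCard _)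
  -- a coprime element normalising a subgroup is trivial
  have hnorm : ∀ (s : ℕ), s.Prime → ∀ (Q : Subgroup (N ⧸ C.subgroupOf N)), IsPGroup s Q →
      ∀ g ∈ normalizer (Q : Set (N ⧸ C.subgroupOf N)), (orderOf g).Coprime p →
      (orderOf g).Coprime s → g ∈ centralizer (Q : Set (N ⧸ C.subgroupOf N)) := by
    intro s hs Q hQ g hg hgp hgs
    haveI := Fact.mk hs
    by_cases hQ1 : Q = ⊥
    · subst hQ1
      rw [mem_centralizer_iff]
      intro z hz
      rw [Subgroup.coe_bot, Set.mem_singleton_iff] at hz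
      rw [hz, one_mul, mul_one]
    by_cases hg1 : g = 1
    · rw [hg1]; exact one_mem _
    exfalso
    have ho : orderOf g ≠ 1 := fun e => hg1 (orderOf_eq_one_iff.1 e)
    set l := (orderOf g).minFac
    have hl : l.Prime := Nat.minFac_prime ho
    have hld : l ∣ orderOf g := Nat.minFac_dvd _
    refine hQ1 (hB l hl (fun e => hl.one_lt.ne' (Nat.eq_one_of_dvd_coprimes hgp hld (e ▸ dvd_rfl)))
      (g ^ (orderOf g / l)) Q (orderOf_pow_orderOf_div (orderOf_pos g).ne' hld) (fun e => ?_)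
      (pow_mem hg _))
    obtain ⟨i, hi⟩ := IsPGroup.iff_card.1 hQ
    rw [hi] at e
    exact hl.one_lt.ne' (Nat.eq_one_of_dvd_coprimes hgs hld
      ((Nat.prime_dvd_prime_iff_eq hl hs).1 (hl.dvd_of_dvd_pow e) ▸ dvd_rfl))
  obtain ⟨P⟩ : Nonempty (Sylow p (N ⧸ C.subgroupOf N)) := inferInstance
  obtain ⟨M, hMn, hMc⟩ := (Cfsg.Agent.S0071.result P).2 fun Q hQ g hg hgp =>
    hnorm p hp Q (P.isPGroup'.to_le hQ) g hg hgp hgp
  haveI := hMn
  have hMp : (Nat.card M).Coprime p := by
    rw [← hMc.index_eq_card]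
    exact (hp.coprime_iff_not_dvd.2 P.not_dvd_index).symm
  have hinM : ∀ s : ℕ, s.Prime → s ≠ p → s ∣ m → s ∣ Nat.card M := by
    intro s hs hsp hsm
    have h1 := hexists s hs hsp hsm
    rw [← hMc.card_mul, hs.dvd_mul] at h1
    refine h1.resolve_right fun e => ?_
    obtain ⟨i, hi⟩ := IsPGroup.iff_card.1 P.isPGroup'
    rw [hi] at e
    exact hsp ((Nat.prime_dvd_prime_iff_eq hs hp).1 (hs.dvd_of_dvd_pow e))
  haveI := Fact.mk hq
  obtain ⟨Q⟩ : Nonempty (Sylow q M) := inferInstance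
  obtain ⟨K, hKn, hKc⟩ := (Cfsg.Agent.S0071.result Q).2 fun R hR g hg hgq => by
    have hgM : (orderOf (g : N ⧸ C.subgroupOf N)).Coprime p :=
      hMp.coprime_dvd_left (Subgroup.orderOf_dvd_natCard _ g.2)
    have h1 := hnorm q hq (R.map M.subtype) ((Q.isPGroup'.to_le hR).map _) (g : N ⧸ C.subgroupOf N)
      (mem_normalizer_fintype fun z hz => by
        obtain ⟨z, hz, rfl⟩ := hz
        exact ⟨g * z * g⁻¹, (mem_normalizer_iff.1 hg z).1 hz, rfl⟩) hgM
      (by rwa [Subgroup.orderOf_coe])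
    rw [mem_centralizer_iff] at h1 ⊢
    exact fun z hz => Subtype.ext (h1 z ⟨z, hz, rfl⟩)
  haveI := hKn
  have hKq : ¬ q ∣ Nat.card K := by
    rw [← hKc.index_eq_card]
    exact Q.not_dvd_index
  obtain ⟨g, hg⟩ := exists_prime_orderOf_dvd_card' q (hinM q hq hqp hqm)
  have hK : K.map M.subtype = ⊥ := by
    refine hB q hq hqp (g : N ⧸ C.subgroupOf N) _ (by rw [Subgroup.orderOf_coe, hg]) ?_
      (mem_normalizer_fintype fun z hz => ?_)
    · rwa [card_map_of_injective M.subtype_injective]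
    · obtain ⟨z, hz, rfl⟩ := hz
      exact ⟨g * z * g⁻¹, hKn.conj_mem z hz g, rfl⟩
  rw [Subgroup.map_eq_bot_iff_of_injective _ M.subtype_injective] at hK
  have h2 := hKc.card_mul
  rw [hK, Subgroup.card_bot, one_mul] at h2
  have h3 := hinM r hr hrp hrm
  rw [← h2] at h3
  obtain ⟨i, hi⟩ := IsPGroup.iff_card.1 Q.isPGroup'
  rw [hi] at h3
  exact hqr ((Nat.prime_dvd_prime_iff_eq hr hq).1 (hr.dvd_of_dvd_pow h3)).symm

end H2.RegTwoSizes
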