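import Cfsg.Agent.H27.ClassBasic
import Cfsg.Agent.H1.Cores
import Cfsg.Agent.H1.CoprimeAction2
import Cfsg.Agent.H75.Basic

/-!
# Two sizes of `p`-regular classes: centralisers

When every noncentral `p`-regular class has size `m`, commuting noncentral `p`-regular elements
have equal centralisers as soon as two primes other than `p` carry noncentral elements.
-/

set_option autoImplicit false
set_option linter.style.haveILetI false
set_option linter.unusedSectionVars false

namespace H2.RegTwoSizes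

open Subgroup
open scoped commutatorElement

variable {G : Type*} [Group G] [Finite G] {p m : ℕ}

/-- All noncentral `p`-regular classes have size `m`. -/
def HasSize (G : Type*) [Group G] (p m : ℕ) : Prop :=
  ∀ x : G, (orderOf x).Coprime p → x ∉ center G → (centralizer ({x} : Set G)).index = m

/-- The prime `s` carries a noncentral element. -/
def Act (G : Type*) [Group G] (s : ℕ) : Prop :=
  ∃ x : G, x ∉ center G ∧ ∃ k, orderOf x = s ^ k

/-- Every prime is missed by some prime other than `p` with a noncentral element. -/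
def Multi (G : Type*) [Group G] (p : ℕ) : Prop :=
  ∀ q : ℕ, ∃ r : ℕ, r.Prime ∧ r ≠ p ∧ r ≠ q ∧ Act G r

theorem coprime_of_pow {s k : ℕ} (hs : s.Prime) (hp : p.Prime) (hsp : s ≠ p) :
    (s ^ k).Coprime p := ((Nat.coprime_primes hs hp).mpr hsp).pow_left k

theorem regular_of_primeOrder {x : G} {s k : ℕ} (hs : s.Prime) (hp : p.Prime) (hsp : s ≠ p)
    (hx : orderOf x = s ^ k) : (orderOf x).Coprime p := hx ▸ coprime_of_pow hs hp hsp

/-- A noncentral element has a noncentral power of prime-power order. -/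
theorem exists_primary {x : G} (hx : x ∉ center G) :
    ∃ (s : ℕ) (y : G), s.Prime ∧ s ∣ orderOf x ∧ y ∈ zpowers x ∧ y ∉ center G ∧
      ∃ k, orderOf y = s ^ k := by
  haveI : (center G).Normal := inferInstance
  set n := orderOf (QuotientGroup.mk' (center G) x) with hn
  have hn1 : n ≠ 1 := fun e => hx ((QuotientGroup.eq_one_iff x).1 (orderOf_eq_one_iff.1 e))
  set s := n.minFac
  have hs : s.Prime := Nat.minFac_prime hn1
  have hsn : s ∣ orderOf x := (Nat.minFac_dvd n).trans (orderOf_map_dvd _ x)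
  set o := orderOf x
  have ho : o ≠ 0 := (orderOf_pos x).ne'
  refine ⟨s, x ^ (o / s ^ o.factorization s), hs, hsn, npow_mem_zpowers _ _, fun h => ?_,
    o.factorization s, ?_⟩
  · have h1 : n ∣ o / s ^ o.factorization s := orderOf_dvd_of_pow_eq_one (by
      rw [← map_pow]
      exact (QuotientGroup.eq_one_iff _).2 h)
    exact Nat.not_dvd_ordCompl hs ho ((Nat.minFac_dvd n).trans h1)
  · rw [orderOf_pow_of_dvd (Nat.ordCompl_pos s ho).ne' (Nat.ordCompl_dvd o s),
      Nat.div_div_self (Nat.ordProj_dvd o s) ho]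

theorem cent_eq_of_le (h : HasSize G p m) {x y : G} (hx : (orderOf x).Coprime p)
    (hxc : x ∉ center G) (hy : (orderOf y).Coprime p) (hyc : y ∉ center G)
    (hle : centralizer ({x} : Set G) ≤ centralizer ({y} : Set G)) :
    centralizer ({x} : Set G) = centralizer ({y} : Set G) := by
  have h1 := relIndex_mul_index hle
  rw [h x hx hxc, h y hy hyc] at h1
  have hm : m ≠ 0 := by
    rw [← h x hx hxc]
    exact index_ne_zero_of_finite
  exact le_antisymm hle (relIndex_eq_one.1 (mul_right_cancel₀ hm (h1.trans (one_mul m).symm)))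

/-- A primary representative of the centraliser. -/
theorem exists_primary_cent (hp : p.Prime) (h : HasSize G p m) {x : G}
    (hx : (orderOf x).Coprime p) (hxc : x ∉ center G) :
    ∃ (s : ℕ) (y : G), s.Prime ∧ s ≠ p ∧ y ∈ zpowers x ∧ y ∉ center G ∧
      (∃ k, orderOf y = s ^ k) ∧ centralizer ({x} : Set G) = centralizer ({y} : Set G) := by
  obtain ⟨s, y, hs, hso, hy, hyc, k, hk⟩ := exists_primary hxc
  have hsp : s ≠ p := fun e => hp.one_lt.ne' (Nat.eq_one_of_dvd_coprimes hx (e ▸ hso) dvd_rfl)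
  exact ⟨s, y, hs, hsp, hy, hyc, ⟨k, hk⟩, cent_eq_of_le h hx hxc
    (regular_of_primeOrder hs hp hsp hk) hyc (H27.cent_le_cent_of_mem_zpowers hy)⟩

theorem act_of_regular (hp : p.Prime) (h : HasSize G p m) {x : G}
    (hx : (orderOf x).Coprime p) (hxc : x ∉ center G) : ∃ s : ℕ, s.Prime ∧ s ≠ p ∧ Act G s := by
  obtain ⟨s, y, hs, hsp, -, hyc, hk, -⟩ := exists_primary_cent hp h hx hxc
  exact ⟨s, hs, hsp, y, hyc, hk⟩

/-- Every centraliser meets every prime that carries noncentral elements. -/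
theorem exists_act_in_cent (hp : p.Prime) (h : HasSize G p m) {x : G}
    (hx : (orderOf x).Coprime p) (hxc : x ∉ center G) {r : ℕ} (hr : r.Prime) (hrp : r ≠ p)
    (hact : Act G r) :
    ∃ z : G, z ∈ centralizer ({x} : Set G) ∧ z ∉ center G ∧ ∃ k, orderOf z = r ^ k := by
  haveI := Fact.mk hr
  by_contra hcon
  obtain ⟨w, hwc, k, hk⟩ := hact
  have hw := regular_of_primeOrder hr hp hrp hk
  set Cx := centralizer ({x} : Set G)
  set Cw := centralizer ({w} : Set G)
  have hcard : Nat.card Cx = Nat.card Cw := by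
    have h1 := Cx.card_mul_index
    rw [h x hx hxc, ← Cw.card_mul_index, h w hw hwc] at h1
    refine mul_right_cancel₀ (fun e => ?_) h1
    exact index_ne_zero_of_finite (H := Cw) ((h w hw hwc).trans e)
  obtain ⟨R⟩ : Nonempty (Sylow r Cx) := inferInstance
  set R' := (R : Subgroup Cx).map Cx.subtype
  have hR'p : IsPGroup r R' := R.isPGroup'.map _
  have hR'c : R' ≤ center G := by
    intro z hz
    by_contra hzc
    obtain ⟨j, hj⟩ := (IsPGroup.iff_orderOf.1 hR'p) ⟨z, hz⟩
    rw [Subgroup.orderOf_mk] at hj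
    exact hcon ⟨z, map_subtype_le _ hz, hzc, j, hj⟩
  have hwp : IsPGroup r (zpowers w) := IsPGroup.of_card (n := k) (by rw [Nat.card_zpowers, hk])
  have hWn : zpowers w ≤ normalizer (R' : Set G) := le_trans (fun y _ =>
    mem_centralizer_iff.2 fun z hz => (Subgroup.mem_center_iff.1 (hR'c hz) y).symm)
    (centralizer_le_normalizer _)
  have hsup : IsPGroup r (R' ⊔ zpowers w : Subgroup G) :=
    IsPGroup.to_sup_of_normal_left' hR'p hwp hWn
  have hle : R' ⊔ zpowers w ≤ Cw := sup_le
    (fun z hz => H27.mem_cent.2 (Subgroup.mem_center_iff.1 (hR'c hz) w).symm)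
    (zpowers_le.2 (H27.mem_cent.2 rfl))
  have hS : IsPGroup r ((R' ⊔ zpowers w).subgroupOf Cw) :=
    hsup.of_equiv (subgroupOfEquivOfLe hle).symm
  obtain ⟨S, hS'⟩ := hS.exists_le_sylow
  have h1 : Nat.card (R' ⊔ zpowers w : Subgroup G) ≤ Nat.card R' := by
    rw [← Nat.card_congr (subgroupOfEquivOfLe hle).toEquiv]
    refine (card_le_of_le hS').trans_eq ?_
    rw [S.card_eq_multiplicity, ← hcard, ← R.card_eq_multiplicity,
      card_map_of_injective Cx.subtype_injective]
  have h2 := Subgroup.eq_of_le_of_card_ge (le_sup_left : R' ≤ R' ⊔ zpowers w) h1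
  exact hwc (hR'c (h2.symm ▸ (le_sup_right : zpowers w ≤ R' ⊔ zpowers w) (mem_zpowers w)))

/-- Commuting noncentral `p`-regular elements have equal centralisers. -/
theorem cent_eq_of_commute (hp : p.Prime) (h : HasSize G p m) (hM : Multi G p) {x y : G}
    (hx : (orderOf x).Coprime p) (hxc : x ∉ center G) (hy : (orderOf y).Coprime p)
    (hyc : y ∉ center G) (hxy : Commute x y) :
    centralizer ({x} : Set G) = centralizer ({y} : Set G) := by
  obtain ⟨s, x1, hs, hsp, hx1, hx1c, ⟨i, hi⟩, ex⟩ := exists_primary_cent hp h hx hxc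
  obtain ⟨t, y1, ht, htp, hy1, hy1c, ⟨j, hj⟩, ey⟩ := exists_primary_cent hp h hy hyc
  have h11 : Commute x1 y1 := by
    obtain ⟨a, rfl⟩ := hx1
    obtain ⟨b, rfl⟩ := hy1
    exact (hxy.zpow_left a).zpow_right b
  -- commuting elements of different primes
  have key : ∀ {u v : G} {a b i j : ℕ}, a.Prime → b.Prime → a ≠ p → b ≠ p → a ≠ b →
      orderOf u = a ^ i → orderOf v = b ^ j → u ∉ center G → v ∉ center G → Commute u v →
      centralizer ({u} : Set G) = centralizer ({v} : Set G) := by
    intro u v a b i j ha hb hap hbp hab hu hv huc hvc huv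
    have hcop : (orderOf u).Coprime (orderOf v) := by
      rw [hu, hv]; exact Nat.Coprime.pow i j ((Nat.coprime_primes ha hb).2 hab)
    have huvr : (orderOf (u * v)).Coprime p := by
      rw [huv.orderOf_mul_eq_mul_orderOf_of_coprime hcop, hu, hv]
      exact (coprime_of_pow ha hp hap).mul_left (coprime_of_pow hb hp hbp)
    have huvc : u * v ∉ center G := fun e => huc (by
      obtain ⟨n, hn⟩ := H27.mem_zpowers_mul_left huv hcop
      exact hn ▸ zpow_mem e n)
    exact (cent_eq_of_le h huvr huvc (regular_of_primeOrder ha hp hap hu) huc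
      (H27.cent_mul_le_left huv hcop)).symm.trans (cent_eq_of_le h huvr huvc
      (regular_of_primeOrder hb hp hbp hv) hvc (H27.cent_mul_le_right huv hcop))
  rw [ex, ey]
  by_cases hst : s = t
  · obtain ⟨r, hr, hrp, hrs, hact⟩ := hM s
    obtain ⟨z, hz, hzc, k, hk⟩ :=
      exists_act_in_cent hp h (regular_of_primeOrder hs hp hsp hi) hx1c hr hrp hact
    have e1 := key hs hr hsp hrp hrs.symm hi hk hx1c hzc (H27.mem_cent_comm.1 hz)
    have hzy : Commute z y1 := H27.mem_cent_comm.1 (e1 ▸ H27.mem_cent_comm.2 h11)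
    exact e1.trans (key hr ht hrp htp (hst ▸ hrs) hk hj hzc hy1c hzy)
  · exact key hs ht hsp htp hst hi hj hx1c hy1c h11

/-- The `p`-regular elements of a centraliser commute. -/
theorem commute_of_mem_cent (hp : p.Prime) (h : HasSize G p m) (hM : Multi G p) {x y z : G}
    (hx : (orderOf x).Coprime p) (hxc : x ∉ center G) (hy : y ∈ centralizer ({x} : Set G))
    (hyr : (orderOf y).Coprime p) (hz : z ∈ centralizer ({x} : Set G)) : Commute y z := by
  by_cases hyc : y ∈ center G
  · exact (Subgroup.mem_center_iff.1 hyc z).symm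
  · rw [cent_eq_of_commute hp h hM hx hxc hyr hyc (H27.mem_cent_comm.1 hy)] at hz
    exact H27.mem_cent_comm.1 hz

theorem normalizer_cent_le {Q : Subgroup G} {a : G}
    (hQ : ∀ g ∈ Q, g * a * g⁻¹ * a⁻¹ ∈ center G) :
    Q ≤ normalizer (centralizer ({a} : Set G) : Set G) := by
  refine fun g hg => mem_normalizer_fintype fun c hc => ?_
  set z := g * a * g⁻¹ * a⁻¹ with hz
  have ha : g * a * g⁻¹ = z * a := by rw [hz, inv_mul_cancel_right]
  have hc' : g * c * g⁻¹ * (g * a * g⁻¹) = g * a * g⁻¹ * (g * c * g⁻¹) := by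
    rw [show g * c * g⁻¹ * (g * a * g⁻¹) = g * (c * a) * g⁻¹ by group, H27.mem_cent.1 hc,
      show g * (a * c) * g⁻¹ = g * a * g⁻¹ * (g * c * g⁻¹) by group]
  rw [ha] at hc'
  show g * c * g⁻¹ ∈ centralizer ({a} : Set G)
  rw [H27.mem_cent]
  have e := Subgroup.mem_center_iff.1 (hQ g hg) (g * c * g⁻¹)
  rw [← mul_assoc, e, mul_assoc, mul_assoc z] at hc'
  exact mul_left_cancel hc'

/-- A subgroup normalised by a `q`-group and not central contains an element central modulo the
centre. -/
theorem exists_central_mod {q : ℕ} [Fact q.Prime] {S A : Subgroup G} (hS : IsPGroup q S)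
    (hA : IsPGroup q A) (hSA : S ≤ normalizer (A : Set G)) (hAZ : ¬ A ≤ center G) :
    ∃ d ∈ A, d ∉ center G ∧ ∀ g ∈ S, g * d * g⁻¹ * d⁻¹ ∈ center G := by
  obtain ⟨B, ⟨hBA, hBn, hBZ⟩, hmin⟩ := Set.exists_min_image
    {B : Subgroup G | B ≤ A ∧ S ≤ normalizer (B : Set G) ∧ ¬ B ≤ center G}
    (fun B => Nat.card B) (Set.toFinite _) ⟨A, le_rfl, hSA, hAZ⟩
  have hlt : ⁅B, S⁆ < B := H1.commutator_lt_of_isPGroup hS (hA.to_le hBA) hBn
    fun e => hBZ (e ▸ bot_le)
  have hcz : ⁅B, S⁆ ≤ center G := by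
    by_contra hne
    exact (hmin _ ⟨hlt.le.trans hBA, H1.right_le_normalizer_commutator, hne⟩).not_gt
      (lt_of_le_of_ne (card_le_of_le hlt.le) fun e => hlt.ne (eq_of_le_of_card_ge hlt.le e.ge))
  obtain ⟨d, hd, hdc⟩ := SetLike.not_le_iff_exists.1 hBZ
  refine ⟨d, hBA hd, hdc, fun g hg => ?_⟩
  have := hcz (Subgroup.commutator_mem_commutator hd hg)
  rw [← inv_mem_iff, commutatorElement_inv, commutatorElement_def] at this
  exact this

end H2.RegTwoSizes
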