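import Cfsg.Agent.H2.RegTwoSizes.OnePrime
import Cfsg.Agent.H2.RegTwoSizes.Automizer
import Cfsg.Agent.H1.AbelianPComplement

/-!
# Two sizes of `p`-regular classes: structure
-/

set_option autoImplicit false
set_option linter.style.haveILetI false
set_option linter.unusedSectionVars false

namespace H2.RegTwoSizes

open Subgroup

universe u

theorem exists_size {G : Type*} [Group G] [Finite G] {p : ℕ}
    (h2 : Set.ncard (Set.range fun x : {x : G // (orderOf x).Coprime p} =>
      (ConjClasses.mk (x : G)).carrier.ncard) = 2) :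
    ∃ m, HasSize G p m := by
  set f := fun x : {x : G // (orderOf x).Coprime p} => (ConjClasses.mk (x : G)).carrier.ncard
  obtain ⟨a, b, hab, hs⟩ := Set.ncard_eq_two.1 h2
  have hf : ∀ (x : G) (hx : (orderOf x).Coprime p),
      (centralizer ({x} : Set G)).index = f ⟨x, hx⟩ := fun x _ =>
    ((Nat.card_coe_set_eq _).symm.trans (H27.card_carrier_eq_index x)).symm
  have h1 : (1 : ℕ) ∈ ({a, b} : Set ℕ) :=
    hs ▸ ⟨⟨1, by simp⟩, (hf 1 (by simp)).symm.trans H27.index_cent_one⟩
  have key : ∀ (x : G) (hx : (orderOf x).Coprime p), x ∉ center G →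
      (centralizer ({x} : Set G)).index ∈ ({a, b} : Set ℕ) ∧
      (centralizer ({x} : Set G)).index ≠ 1 := fun x hx hxc =>
    ⟨hs ▸ ⟨⟨x, hx⟩, (hf x hx).symm⟩, fun e => hxc (H27.index_cent_eq_one_iff.1 e)⟩
  rcases h1 with e | e
  · refine ⟨b, fun x hx hxc => ?_⟩
    rcases (key x hx hxc).1 with e' | e'
    · exact absurd (e'.trans e.symm) (key x hx hxc).2
    · exact e'
  · refine ⟨a, fun x hx hxc => ?_⟩
    rcases (key x hx hxc).1 with e' | e'
    · exact e'
    · exact absurd (e'.trans (Eq.symm e)) (key x hx hxc).2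

/-- If only the prime `q` besides `p` carries noncentral elements, the central part splits off. -/
theorem split_of_single {G : Type*} [Group G] [Finite G] {p q : ℕ} (hp : p.Prime) [Fact q.Prime]
    (hqp : q ≠ p) (honly : ∀ r : ℕ, r.Prime → r ≠ p → r ≠ q → ¬ Act G r) :
    ∃ (P : Sylow p G) (Q : Sylow q G) (A : Subgroup G),
      A ≤ Subgroup.center G ∧
        Nat.card ↥((P : Subgroup G) ⊔ (Q : Subgroup G)) = Nat.card P * Nat.card Q ∧
        ((P : Subgroup G) ⊔ (Q : Subgroup G)).Normal ∧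
        ((P : Subgroup G) ⊔ (Q : Subgroup G)) ⊓ A = ⊥ ∧
        ((P : Subgroup G) ⊔ (Q : Subgroup G)) ⊔ A = ⊤ := by
  have hq : q.Prime := Fact.out
  haveI := Fact.mk hp
  let A : Subgroup G :=
    { carrier := {z | z ∈ center G ∧ (orderOf z).Coprime (p * q)}
      one_mem' := ⟨one_mem _, by simp⟩
      mul_mem' := fun {y z} hy hz => ⟨mul_mem hy.1 hz.1,
        Nat.Coprime.coprime_dvd_left
          (show Commute y z from Subgroup.mem_center_iff.1 hz.1 y).orderOf_mul_dvd_lcm
          (Nat.Coprime.coprime_dvd_left (Nat.lcm_dvd_mul _ _) (hy.2.mul_left hz.2))⟩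
      inv_mem' := fun {y} hy => ⟨inv_mem hy.1, by rw [orderOf_inv]; exact hy.2⟩ }
  have hAc : A ≤ center G := fun z hz => hz.1
  haveI hAn : A.Normal := ⟨fun z hz g => by
    rw [Subgroup.mem_center_iff.1 hz.1 g, mul_inv_cancel_right]; exact hz⟩
  have hAcop : (Nat.card A).Coprime (p * q) := by
    refine Nat.coprime_of_dvd fun s hs hsA hspq => ?_
    haveI := Fact.mk hs
    obtain ⟨z, hz⟩ := exists_prime_orderOf_dvd_card' s hsA
    rw [← Subgroup.orderOf_coe] at hz
    exact hs.one_lt.ne' (Nat.eq_one_of_dvd_coprimes (hz ▸ z.2.2) dvd_rfl hspq)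
  have hiA : ∀ s : ℕ, s.Prime → s ∣ A.index → s = p ∨ s = q := by
    intro s hs hd
    by_contra hne
    push_neg at hne
    haveI := Fact.mk hs
    obtain ⟨S⟩ : Nonempty (Sylow s G) := inferInstance
    refine S.not_dvd_index (hd.trans (index_dvd_of_le fun z hz => ?_))
    obtain ⟨k, hk⟩ := IsPGroup.iff_orderOf.1 S.isPGroup' ⟨z, hz⟩
    rw [Subgroup.orderOf_mk] at hk
    refine ⟨?_, ?_⟩
    · by_contra hzc
      exact honly s hs hne.1 hne.2 ⟨z, hzc, k, hk⟩
    · rw [hk]
      exact (((Nat.coprime_primes hs hp).2 hne.1).mul_right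
        ((Nat.coprime_primes hs hq).2 hne.2)).pow_left k
  have hcop : (Nat.card A).Coprime A.index := Nat.coprime_of_dvd fun s hs h1 h2 => by
    rcases hiA s hs h2 with rfl | rfl
    · exact hs.one_lt.ne' (Nat.eq_one_of_dvd_coprimes hAcop h1 (dvd_mul_right _ _))
    · exact hs.one_lt.ne' (Nat.eq_one_of_dvd_coprimes hAcop h1 (dvd_mul_left _ _))
  obtain ⟨K, hK⟩ := exists_right_complement'_of_coprime hcop
  have htop : A ⊔ K = ⊤ := hK.sup_eq_top
  haveI hKn : K.Normal := normalizer_eq_top_iff.1 (top_le_iff.1 (htop.ge.trans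
    (sup_le (hAc.trans (center_le_normalizer _)) le_normalizer)))
  have hKi : K.index = Nat.card A := hK.index_eq_card
  have hSle : ∀ (s : ℕ) [Fact s.Prime], s ∣ p * q → ∀ S : Sylow s G, (S : Subgroup G) ≤ K := by
    intro s hs hd S x hx
    obtain ⟨k, hk⟩ := IsPGroup.iff_orderOf.1 S.isPGroup' ⟨x, hx⟩
    rw [Subgroup.orderOf_mk] at hk
    refine mem_of_coprime_order (a := K.index) (b := s ^ k) (Subgroup.pow_index_mem K x) ?_ ?_
    · rw [← hk, pow_orderOf_eq_one]; exact one_mem _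
    · rw [hKi]
      exact (Nat.Coprime.coprime_dvd_right hd hAcop).pow_right k
  obtain ⟨P⟩ : Nonempty (Sylow p G) := inferInstance
  obtain ⟨Q⟩ : Nonempty (Sylow q G) := inferInstance
  set H := (P : Subgroup G) ⊔ (Q : Subgroup G) with hH
  have hHK : H ≤ K := sup_le (hSle p (dvd_mul_right p q) P) (hSle q (dvd_mul_left q p) Q)
  obtain ⟨a, ha⟩ := IsPGroup.iff_card.1 P.isPGroup'
  obtain ⟨b, hb⟩ := IsPGroup.iff_card.1 Q.isPGroup'
  have hcPQ : (Nat.card P).Coprime (Nat.card Q) := by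
    rw [ha, hb]; exact Nat.Coprime.pow a b ((Nat.coprime_primes hp hq).2 hqp.symm)
  have hd1 : Nat.card P * Nat.card Q ∣ Nat.card H := hcPQ.mul_dvd_of_dvd_of_dvd
    (card_dvd_of_le le_sup_left) (card_dvd_of_le le_sup_right)
  have hd2 : Nat.card K ∣ Nat.card P * Nat.card Q := by
    rw [← hK.symm.index_eq_card, P.card_eq_multiplicity, Q.card_eq_multiplicity]
    refine (Nat.factorization_le_iff_dvd index_ne_zero_of_finite (by positivity [hp.pos, hq.pos])).1
      fun s => ?_
    by_cases hs : s ∈ A.index.factorization.support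
    · rw [Nat.support_factorization, Nat.mem_primeFactors] at hs
      have hle := (Nat.factorization_le_iff_dvd index_ne_zero_of_finite Nat.card_pos.ne').2
        A.index_dvd_card s
      rw [Nat.factorization_mul (pow_pos hp.pos _).ne' (pow_pos hq.pos _).ne', hp.factorization_pow,
        hq.factorization_pow, Finsupp.add_apply]
      rcases hiA s hs.1 hs.2.1 with rfl | rfl
      · rw [Finsupp.single_eq_same]; exact hle.trans (Nat.le_add_right _ _)
      · rw [Finsupp.single_eq_same]; exact hle.trans (Nat.le_add_left _ _)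
    · rw [Finsupp.notMem_support_iff.1 hs]; exact Nat.zero_le _
  have hcard : Nat.card H = Nat.card P * Nat.card Q :=
    Nat.dvd_antisymm ((card_dvd_of_le hHK).trans hd2) hd1
  have hKH : H = K := Subgroup.eq_of_le_of_card_ge hHK
    (hcard ▸ Nat.le_of_dvd (Nat.mul_pos Nat.card_pos Nat.card_pos) hd2)
  refine ⟨P, Q, A, hAc, hcard, ?_, ?_, ?_⟩
  · rw [← hH, hKH]; exact hKn
  · rw [← hH, hKH, inf_comm]; exact hK.disjoint.eq_bot
  · rw [← hH, hKH, sup_comm]; exact htop

/-- Two sizes of `p`-regular classes. -/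
theorem structure_of_hasSize {G : Type u} [Group G] [Finite G] {p m : ℕ} (hp : p.Prime)
    (h : HasSize G p m) :
    H1.RegClassPow G p ∨ ∃ (q : ℕ) (_ : Fact q.Prime) (P : Sylow p G) (Q : Sylow q G)
      (A : Subgroup G), q ≠ p ∧ A ≤ Subgroup.center G ∧
        Nat.card ↥((P : Subgroup G) ⊔ (Q : Subgroup G)) = Nat.card P * Nat.card Q ∧
        ((P : Subgroup G) ⊔ (Q : Subgroup G)).Normal ∧
        ((P : Subgroup G) ⊔ (Q : Subgroup G)) ⊓ A = ⊥ ∧
        ((P : Subgroup G) ⊔ (Q : Subgroup G)) ⊔ A = ⊤ := by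
  by_cases hreg : H1.RegClassPow G p
  · exact Or.inl hreg
  refine Or.inr ?_
  obtain ⟨x, hx, hxm⟩ : ∃ x : G, (orderOf x).Coprime p ∧
      ¬ ∃ k, (centralizer ({x} : Set G)).index = p ^ k := by
    by_contra! hcon
    exact hreg hcon
  have hxc : x ∉ center G := fun e => hxm ⟨0, by rw [pow_zero]; exact H27.index_cent_eq_one_iff.2 e⟩
  rw [h x hx hxc] at hxm
  have hm0 : m ≠ 0 := by rw [← h x hx hxc]; exact index_ne_zero_of_finite
  obtain ⟨q, hq, hqm, hqp⟩ : ∃ q, q.Prime ∧ q ∣ m ∧ q ≠ p := by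
    by_contra! hcon
    exact hxm ⟨_, Nat.eq_prime_pow_of_unique_prime_dvd hm0 fun {d} hd hdd => hcon d hd hdd⟩
  by_cases hM : Multi G p
  · exfalso
    by_cases honly : ∀ d : ℕ, d.Prime → d ∣ m → d = p ∨ d = q
    · exact false_one_prime hp h hM hq hqp hqm honly
    · push_neg at honly
      obtain ⟨r, hr, hrm, hrp, hrq⟩ := honly
      exact false_two_primes hp h hM hx hxc hq hqp hqm hr hrp hrm hrq.symm
  · unfold Multi at hM
    push_neg at hM
    obtain ⟨q₀, hq₀⟩ := hM
    obtain ⟨s, hs, hsp, hact⟩ := act_of_regular hp h hx hxc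
    have hs0 : s = q₀ := by
      by_contra hne
      exact hq₀ s hs hsp hne hact
    haveI := Fact.mk hs
    obtain ⟨P, Q, A, hrest⟩ := split_of_single hp hsp (hs0 ▸ hq₀ : ∀ r : ℕ, r.Prime → r ≠ p → r ≠ s → ¬ Act G r)
    exact ⟨s, inferInstance, P, Q, A, hsp, hrest⟩

end H2.RegTwoSizes
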