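import Cfsg.Agent.H2.RegTwoSizes.Basic
import Cfsg.Agent.H25.Kazarin
import Cfsg.Agent.H1.Hall

/-!
# Two sizes of `p`-regular classes: one prime besides `p` divides the size

Kazarin's theorem puts a noncentral `q`-element into a solvable normal subgroup, so some
`p'`-group normal modulo `O_p(G)` is noncentral; its centraliser then controls all the
`p`-regular elements.
-/

set_option autoImplicit false
set_option linter.style.haveILetI false
set_option linter.unusedSectionVars false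

namespace H2.RegTwoSizes

open Subgroup
open scoped commutatorElement

universe u

theorem not_center_sylow {G : Type*} [Group G] [Finite G] {p m q : ℕ} (hp : p.Prime)
    (h : HasSize G p m) [Fact q.Prime] (hqp : q ≠ p) (hqm : q ∣ m) (Q : Sylow q G) {z : G}
    (hz : z ∈ (Q : Subgroup G)) (hzQ : (Q : Subgroup G) ≤ centralizer ({z} : Set G)) :
    z ∈ center G := by
  by_contra hzc
  obtain ⟨k, hk⟩ := IsPGroup.iff_orderOf.1 Q.isPGroup' ⟨z, hz⟩
  rw [Subgroup.orderOf_mk] at hk
  have hi := h z (regular_of_primeOrder Fact.out hp hqp hk) hzc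
  exact Q.not_dvd_index (hqm.trans (hi ▸ index_dvd_of_le hzQ))

/-- Elements of coprime orders modulo two subgroups collapse. -/
theorem mem_of_coprime_order {G : Type*} [Group G] {N : Subgroup G} [N.Normal] {x : G} {a b : ℕ}
    (ha : x ^ a ∈ N) (hb : x ^ b ∈ N) (hab : a.Coprime b) : x ∈ N := by
  rw [← QuotientGroup.eq_one_iff] at ha hb ⊢
  rw [QuotientGroup.mk_pow] at ha hb
  rw [← pow_one (x : G ⧸ N), ← hab.gcd_eq_one]
  exact pow_gcd_eq_one.2 ⟨ha, hb⟩

/-- The core of the one-prime case: a noncentral abelian `s`-group normal modulo `O_p`. -/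
theorem false_of_frattini {G : Type*} [Group G] [Finite G] {p m q : ℕ} (hp : p.Prime)
    (h : HasSize G p m) (hM : Multi G p) (hq : q.Prime) (hqp : q ≠ p) (hqm : q ∣ m)
    (honly : ∀ d : ℕ, d.Prime → d ∣ m → d = p ∨ d = q)
    {s : ℕ} (hs : s.Prime) (hsp : s ≠ p) {S₀ : Subgroup G} (hSp : IsPGroup s S₀)
    (hSc : ∀ x ∈ S₀, ∀ y ∈ S₀, Commute x y) {b : G} (hb : b ∈ S₀) (hbc : b ∉ center G)
    (hfr : Cfsg.pCore p G ⊔ normalizer (S₀ : Set G) = ⊤) : False := by
  haveI := Fact.mk hp
  haveI := Fact.mk hq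
  set M := Cfsg.pCore p G
  haveI hMn : M.Normal := H1.pCore_normal' p G
  haveI := Fact.mk hs
  obtain ⟨k, hk⟩ := IsPGroup.iff_orderOf.1 hSp ⟨b, hb⟩
  rw [Subgroup.orderOf_mk] at hk
  have hbr := regular_of_primeOrder hs hp hsp hk
  set C := centralizer ({b} : Set G) with hC
  have hCS : C = centralizer (S₀ : Set G) := by
    refine le_antisymm (fun c hc => mem_centralizer_iff.2 fun y hy => ?_)
      (centralizer_le (Set.singleton_subset_iff.2 hb))
    obtain ⟨j, hj⟩ := IsPGroup.iff_orderOf.1 hSp ⟨y, hy⟩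
    rw [Subgroup.orderOf_mk] at hj
    by_cases hyc : y ∈ center G
    · exact (Subgroup.mem_center_iff.1 hyc c).symm
    · rw [hC, cent_eq_of_commute hp h hM hbr hbc (regular_of_primeOrder hs hp hsp hj) hyc
        (hSc b hb y hy)] at hc
      exact H27.mem_cent_comm.1 hc
  set D := M ⊔ C with hD
  have hDn : D.Normal := by
    refine normalizer_eq_top_iff.1 (top_le_iff.1 (hfr.ge.trans (sup_le ?_ ?_)))
    · exact (le_sup_left : M ≤ D).trans le_normalizer
    · intro g hg
      refine mem_normalizer_fintype fun d hd => ?_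
      have hgC : g ∈ normalizer (C : Set G) := hCS ▸ H75.normalizer_le_normalizer_centralizer S₀ hg
      have : (MulAut.conj g).toMonoidHom d ∈ D.map (MulAut.conj g).toMonoidHom := mem_map_of_mem _ hd
      rw [hD, Subgroup.map_sup] at this
      refine (sup_le ((map_le_iff_le_comap.2 fun y hy => ?_).trans le_sup_left)
        ((map_le_iff_le_comap.2 fun y hy => ?_).trans le_sup_right) :
          M.map (MulAut.conj g).toMonoidHom ⊔ C.map (MulAut.conj g).toMonoidHom ≤ D) this
      · exact hMn.conj_mem y hy g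
      · exact (mem_normalizer_iff.1 hgC y).1 hy
  have hCm : C.index = m := h b hbr hbc
  have hDdvd : D.index ∣ m := hCm ▸ index_dvd_of_le le_sup_right
  obtain ⟨r, hr, hrp, hrq, hact⟩ := hM q
  haveI := Fact.mk hr
  have hrm : ¬ r ∣ m := fun e => (honly r hr e).elim hrp hrq
  obtain ⟨R, hR⟩ := H27.exists_sylow_le_of_not_dvd_index (p := r) (hCm ▸ hrm : ¬ r ∣ C.index)
  -- every `q`-element lies in `D`
  have hqD : ∀ g : G, (∃ j, orderOf g = q ^ j) → g ∈ D := by
    rintro g ⟨j, hj⟩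
    by_cases hgc : g ∈ center G
    · exact le_sup_right (a := M) (H27.mem_cent.2 (Subgroup.mem_center_iff.1 hgc b).symm)
    have hgr := regular_of_primeOrder hq hp hqp hj
    obtain ⟨y, hy, hyc, i, hi⟩ := exists_act_in_cent hp h hgr hgc hr hrp hact
    obtain ⟨R', hR'⟩ := (IsPGroup.of_card (n := i) (by rw [Nat.card_zpowers, hi]) :
      IsPGroup r (zpowers y)).exists_le_sylow
    obtain ⟨u, hu⟩ := MulAction.exists_smul_eq G R R'
    have hR'D : (R' : Subgroup G) ≤ D := by
      rw [← hu, Sylow.coe_subgroup_smul]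
      intro z hz
      rw [Subgroup.mem_pointwise_smul_iff_inv_smul_mem] at hz
      have h1 := hDn.conj_mem _ (le_sup_right (a := M) (hR hz)) u
      simpa [MulAut.smul_def, mul_assoc] using h1
    have hRD : (R : Subgroup G) ≤ D := hR.trans le_sup_right
    obtain ⟨d, hd⟩ := MulAction.exists_smul_eq D (R.subtype hRD) (R'.subtype hR'D)
    have hyd : (d : G)⁻¹ * y * d ∈ (R : Subgroup G) := by
      have h1 : (⟨y, hR'D (hR' (mem_zpowers y))⟩ : D) ∈
          ((R'.subtype hR'D : Sylow r D) : Subgroup D) := by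
        rw [Sylow.coe_subtype, mem_subgroupOf]
        exact hR' (mem_zpowers y)
      rw [← hd, Sylow.coe_subgroup_smul, Subgroup.mem_pointwise_smul_iff_inv_smul_mem,
        Sylow.coe_subtype, mem_subgroupOf] at h1
      simpa [MulAut.smul_def, mul_assoc] using h1
    set y' := (d : G)⁻¹ * y * d with hy'
    have hy'r : (orderOf y').Coprime p := by
      rw [hy', show orderOf ((d : G)⁻¹ * y * d) = orderOf y by
        rw [← MulAut.conj_inv_apply]; exact MulEquiv.orderOf_eq ((MulAut.conj (d : G))⁻¹) y, hi]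
      exact coprime_of_pow hr hp hrp
    have hy'c : y' ∉ center G := fun e => hyc (by
      have h1 := (inferInstance : (center G).Normal).conj_mem _ e (d : G)
      rwa [hy', show (d : G) * ((d : G)⁻¹ * y * d) * (d : G)⁻¹ = y by group] at h1)
    have hgy : g ∈ centralizer ({y} : Set G) := H27.mem_cent_symm.1 hy
    have hgd : (d : G)⁻¹ * g * d ∈ centralizer ({y'} : Set G) := by
      rw [H27.mem_cent, hy', show (d : G)⁻¹ * g * d * ((d : G)⁻¹ * y * d) = (d : G)⁻¹ * (g * y) * d
        by group, H27.mem_cent.1 hgy]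
      group
    rw [cent_eq_of_commute hp h hM hy'r hy'c hbr hbc (H27.mem_cent_comm.1 (hR hyd)).symm] at hgd
    have := D.mul_mem (D.mul_mem d.2 (le_sup_right (a := M) hgd)) (D.inv_mem d.2)
    rwa [show (d : G) * ((d : G)⁻¹ * g * d) * (d : G)⁻¹ = g by group] at this
  obtain ⟨Q⟩ : Nonempty (Sylow q G) := inferInstance
  have hQD : (Q : Subgroup G) ≤ D := fun g hg => hqD g (by
    obtain ⟨j, hj⟩ := IsPGroup.iff_orderOf.1 Q.isPGroup' ⟨g, hg⟩
    exact ⟨j, by rwa [Subgroup.orderOf_mk] at hj⟩)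
  have hdvd : Nat.card Q ∣ Nat.card C * Nat.card M := by
    refine (card_dvd_of_le hQD).trans ?_
    rw [hD, sup_comm]
    exact H1.card_sup_dvd_mul C M
  obtain ⟨e, he⟩ := H1.card_pCore_eq_pow p G
  obtain ⟨n, hn⟩ := IsPGroup.iff_card.1 Q.isPGroup'
  rw [he] at hdvd
  have hQC : Nat.card Q ∣ Nat.card C :=
    (show (Nat.card Q).Coprime (p ^ e) by
      rw [hn]; exact Nat.Coprime.pow n e ((Nat.coprime_primes hq hp).2 hqp)).dvd_of_dvd_mul_right hdvd
  obtain ⟨c, hc⟩ := hQC
  have h1 := C.card_mul_index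
  rw [hc, ← (Q : Subgroup G).card_mul_index, mul_assoc] at h1
  have h2 := Nat.eq_of_mul_eq_mul_left Nat.card_pos h1
  exact Q.not_dvd_index (h2 ▸ (hCm.symm ▸ hqm : q ∣ C.index).mul_left c)

/-- With a single prime besides `p` in the class size there is no second active prime. -/
theorem false_one_prime {G : Type u} [Group G] [Finite G] {p m q : ℕ} (hp : p.Prime)
    (h : HasSize G p m) (hM : Multi G p) (hq : q.Prime) (hqp : q ≠ p) (hqm : q ∣ m)
    (honly : ∀ d : ℕ, d.Prime → d ∣ m → d = p ∨ d = q) : False := by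
  haveI := Fact.mk hp
  haveI := Fact.mk hq
  set M := Cfsg.pCore p G
  haveI hMn : M.Normal := H1.pCore_normal' p G
  set Z := center G
  obtain ⟨Q⟩ : Nonempty (Sylow q G) := inferInstance
  -- a `q`-element with class of `p`-power size modulo the centre
  obtain ⟨a, ha, haZ, haQ⟩ : ∃ a ∈ (Q : Subgroup G), a ∉ Z ∧
      ∀ g ∈ (Q : Subgroup G), g * a * g⁻¹ * a⁻¹ ∈ Z := by
    refine exists_central_mod Q.isPGroup' Q.isPGroup' le_normalizer fun hle => ?_
    obtain ⟨r, hr, hrp, -, x, hxc, i, hi⟩ := hM q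
    have hxr := regular_of_primeOrder hr hp hrp hi
    have h1 : (Q : Subgroup G) ≤ centralizer ({x} : Set G) := fun g hg =>
      H27.mem_cent.2 (Subgroup.mem_center_iff.1 (hle hg) x).symm
    exact Q.not_dvd_index (hqm.trans (h x hxr hxc ▸ index_dvd_of_le h1))
  obtain ⟨k, hk⟩ := IsPGroup.iff_orderOf.1 Q.isPGroup' ⟨a, ha⟩
  rw [Subgroup.orderOf_mk] at hk
  have har := regular_of_primeOrder hq hp hqp hk
  set π := QuotientGroup.mk' Z with hπ
  set L₁ := (centralizer ({π a} : Set (G ⧸ Z))).comap π with hL₁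
  have hmemL : ∀ g, g ∈ L₁ ↔ g * a * g⁻¹ * a⁻¹ ∈ Z := by
    intro g
    rw [hL₁, mem_comap, H27.mem_cent, ← QuotientGroup.eq_one_iff]
    show π g * π a = π a * π g ↔ π (g * a * g⁻¹ * a⁻¹) = 1
    rw [map_mul, map_mul, map_mul, map_inv, map_inv, mul_inv_eq_one, mul_inv_eq_iff_eq_mul]
  have hLC : centralizer ({a} : Set G) ≤ L₁ := fun g hg => (hmemL g).2 (by
    rw [H27.mem_cent.1 hg, mul_inv_cancel_right, mul_inv_cancel]; exact one_mem _)
  obtain ⟨j, hj⟩ : ∃ j, (centralizer ({π a} : Set (G ⧸ Z))).index = p ^ j := by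
    rw [← index_comap_of_surjective _ (QuotientGroup.mk'_surjective Z), ← hL₁]
    refine ⟨_, Nat.eq_prime_pow_of_unique_prime_dvd index_ne_zero_of_finite fun {d} hd hdd => ?_⟩
    refine ((honly d hd (hdd.trans (h a har haZ ▸ index_dvd_of_le hLC))).resolve_right ?_)
    intro e
    exact Q.not_dvd_index ((e ▸ hdd).trans (index_dvd_of_le fun g hg => (hmemL g).2 (haQ g hg)))
  set R := (Subgroup.normalClosure ({π a} : Set (G ⧸ Z))).comap π with hR
  haveI hRsol : Group.IsSolvable R := by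
    haveI := H25.kazarin hp _ rfl (π a) j hj
    haveI : Group.IsSolvable Z := Group.isSolvable_of_comm fun x y =>
      Subtype.ext (Subgroup.mem_center_iff.1 y.2 x)
    refine Group.isSolvable_of_ker_le_range (Subgroup.inclusion (show Z ≤ R from fun z hz => by
      rw [hR, mem_comap]
      convert one_mem (Subgroup.normalClosure ({π a} : Set (G ⧸ Z)))
      exact (QuotientGroup.eq_one_iff z).2 hz)) (π.subgroupComap (Subgroup.normalClosure ({π a} : Set (G ⧸ Z)))) ?_
    intro x hx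
    refine ⟨⟨x, (QuotientGroup.eq_one_iff _).1 (congrArg Subtype.val hx)⟩, rfl⟩
  haveI hRn : R.Normal := Subgroup.Normal.comap inferInstance π
  have haR : a ∈ R := Subgroup.subset_normalClosure (Set.mem_singleton _)
  set K := M ⊔ Z with hKdef
  haveI hKn : K.Normal := inferInstance
  set σ := QuotientGroup.mk' K with hσ
  obtain ⟨pe, hpe⟩ := H1.card_pCore_eq_pow p G
  -- `K` is a `p`-group over the centre
  have hKZ : ∀ x ∈ K, x ^ p ^ pe ∈ Z := by
    intro x hx
    rw [← QuotientGroup.eq_one_iff]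
    have h1 : π x ∈ M.map π := by
      have := mem_map_of_mem π hx
      rwa [hKdef, Subgroup.map_sup, show Z.map π = ⊥ from QuotientGroup.map_mk'_self Z,
        sup_bot_eq] at this
    obtain ⟨y, hy, hyx⟩ := h1
    show π (x ^ p ^ pe) = 1
    rw [map_pow, ← hyx, ← map_pow,
      orderOf_dvd_iff_pow_eq_one.1 (hpe ▸ Subgroup.orderOf_dvd_natCard M hy), map_one]
  have haK : a ∉ K := fun e => haZ (mem_of_coprime_order (hKZ a e)
    (show a ^ q ^ k ∈ Z by rw [← hk, pow_orderOf_eq_one]; exact one_mem _)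
    (Nat.Coprime.pow pe k ((Nat.coprime_primes hp hq).2 hqp.symm)))
  set Rb := R.map σ with hRb
  haveI : Rb.Normal := hRn.map σ (QuotientGroup.mk'_surjective K)
  haveI : Group.IsSolvable Rb :=
    Group.isSolvable_of_surjective (f := σ.subgroupMap R) (σ.subgroupMap_surjective R)
  haveI : Nontrivial Rb := (Subgroup.nontrivial_iff_ne_bot Rb).2 fun e => haK (by
    rw [← QuotientGroup.eq_one_iff]
    exact Subgroup.mem_bot.1 (e ▸ mem_map_of_mem σ haR : σ a ∈ (⊥ : Subgroup (G ⧸ K))))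
  obtain ⟨s, V, hs, hVn, hV1, hVp⟩ := H1.exists_normal_pgroup_ne_bot Rb
  haveI := Fact.mk hs
  haveI := hVn
  set W := (Cfsg.pCore s Rb).map Rb.subtype with hW
  haveI : (Cfsg.pCore s Rb).Characteristic := H1.pCore_characteristic s _
  haveI hWn : W.Normal := H1.map_subtype_normal_of_characteristic Rb _
  have hWp : IsPGroup s W := (H1.isPGroup_pCore s _).map _
  have hW1 : W ≠ ⊥ := fun e => hV1 (le_bot_iff.1 ((H1.le_pCore hVp).trans
    (by rw [hW, Subgroup.map_eq_bot_iff_of_injective _ Rb.subtype_injective] at e; exact e.le)))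
  set L := W.comap σ with hL
  haveI hLn : L.Normal := hWn.comap σ
  have hKL : K ≤ L := fun x hx => by
    rw [hL, mem_comap, hσ, QuotientGroup.mk'_apply, (QuotientGroup.eq_one_iff x).2 hx]
    exact one_mem _
  obtain ⟨we, hwe⟩ := IsPGroup.iff_card.1 hWp
  have hLK : ∀ x ∈ L, x ^ s ^ we ∈ K := fun x hx => by
    rw [← QuotientGroup.eq_one_iff]
    show σ (x ^ s ^ we) = 1
    rw [map_pow]
    exact orderOf_dvd_iff_pow_eq_one.1 (hwe ▸ Subgroup.orderOf_dvd_natCard W hx)
  have hsp : s ≠ p := by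
    rintro rfl
    have hLp : IsPGroup s ((L.map π : Subgroup (G ⧸ Z))) := by
      rintro ⟨_, x, hx, rfl⟩
      refine ⟨we + pe, Subtype.ext ?_⟩
      show π x ^ s ^ (we + pe) = 1
      rw [← map_pow, pow_add, pow_mul, hπ, QuotientGroup.mk'_apply, QuotientGroup.eq_one_iff]
      exact hKZ _ (hLK x hx)
    haveI : Group.IsNilpotent L := by
      let f := π.subgroupMap L
      haveI := hLp.isNilpotent
      refine _root_.isNilpotent_of_ker_le_center f (fun x hx => ?_)
      rw [MonoidHom.mem_ker] at hx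
      have hxZ : (x : G) ∈ Z := (QuotientGroup.eq_one_iff _).1 (congrArg Subtype.val hx)
      exact Subgroup.mem_center_iff.2 fun y => Subtype.ext (Subgroup.mem_center_iff.1 hxZ y)
    obtain ⟨P⟩ : Nonempty (Sylow s L) := inferInstance
    haveI : (P : Subgroup L).Normal := inferInstance
    haveI : (P : Subgroup L).Characteristic := P.characteristic_of_normal inferInstance
    haveI : ((P : Subgroup L).map L.subtype).Normal := H1.map_subtype_normal_of_characteristic L _
    have hPM : (P : Subgroup L).map L.subtype ≤ M := H1.le_pCore (P.isPGroup'.map _)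
    have hLle : L ≤ K := by
      intro x hx
      refine mem_of_coprime_order (hLK x hx) (b := (P : Subgroup L).index) ?_ ?_
      · have h1 : (⟨x, hx⟩ : L) ^ (P : Subgroup L).index ∈ (P : Subgroup L) :=
          Subgroup.pow_index_mem _ _
        exact (le_sup_left : M ≤ K) (hPM ⟨_, h1, rfl⟩)
      · exact (hs.coprime_iff_not_dvd.2 P.not_dvd_index).pow_left we
    exact hW1 (eq_bot_iff.2 fun w hw => by
      obtain ⟨x, rfl⟩ := QuotientGroup.mk'_surjective K w
      exact Subgroup.mem_bot.2 ((QuotientGroup.eq_one_iff x).2 (hLle hw)))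
  -- a Sylow `s`-subgroup of `L`
  obtain ⟨S⟩ : Nonempty (Sylow s L) := inferInstance
  set S₀ := (S : Subgroup L).map L.subtype with hS₀
  have hS₀p : IsPGroup s S₀ := S.isPGroup'.map _
  have hS₀L : S₀ ≤ L := map_subtype_le _
  have hLS : L ≤ K ⊔ S₀ := by
    intro x hx
    set T := ((K ⊔ S₀).subgroupOf L) with hT
    have hKT : K.subgroupOf L ≤ T := fun y hy => le_sup_left (b := S₀) hy
    have hST : (S : Subgroup L) ≤ T := fun y hy => le_sup_right (a := K) ⟨y, hy, rfl⟩
    have h1 : T = ⊤ := by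
      rw [← index_eq_one]
      refine Nat.eq_one_of_dvd_coprimes (a := T.index) (b := s ^ we) ?_ dvd_rfl ?_
      · exact ((hs.coprime_iff_not_dvd.2 fun e =>
          S.not_dvd_index (e.trans (index_dvd_of_le hST))).pow_left we).symm
      · refine (index_dvd_of_le hKT).trans (dvd_of_eq ?_)
        refine Nat.eq_of_mul_eq_mul_left (Nat.card_pos (α := (K.subgroupOf L))) ?_
        rw [card_mul_index, Nat.card_congr (subgroupOfEquivOfLe hKL).toEquiv, ← hwe]
        exact H1.card_comap_mk' K W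
    exact (h1 ▸ Subgroup.mem_top (⟨x, hx⟩ : L) : (⟨x, hx⟩ : L) ∈ T)
  have hS₀Z : ¬ S₀ ≤ Z := fun hle => hW1 (eq_bot_iff.2 fun w hw => by
    obtain ⟨x, rfl⟩ := QuotientGroup.mk'_surjective K w
    exact Subgroup.mem_bot.2 ((QuotientGroup.eq_one_iff x).2
      (sup_le le_rfl (hle.trans le_sup_right) (hLS hw))))
  obtain ⟨b, hb, hbc⟩ := SetLike.not_le_iff_exists.1 hS₀Z
  -- the `s`-subgroup is abelian
  have hSc : ∀ x ∈ S₀, ∀ y ∈ S₀, Commute x y := by
    have hreg : ∀ x ∈ S₀, (orderOf x).Coprime p := fun x hx => by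
      obtain ⟨i, hi⟩ := IsPGroup.iff_orderOf.1 hS₀p ⟨x, hx⟩
      exact regular_of_primeOrder hs hp hsp (by rwa [Subgroup.orderOf_mk] at hi)
    suffices hc : ∃ c : G, (orderOf c).Coprime p ∧ c ∉ Z ∧ ∃ g : G,
        ∀ x ∈ S₀, g * x * g⁻¹ ∈ centralizer ({c} : Set G) by
      obtain ⟨c, hcr, hcc, g, hg⟩ := hc
      intro x hx y hy
      have hr' : ∀ z ∈ S₀, (orderOf (g * z * g⁻¹)).Coprime p := fun z hz => by
        rw [← MulAut.conj_apply, MulEquiv.orderOf_eq]; exact hreg z hz
      have := commute_of_mem_cent hp h hM hcr hcc (hg x hx) (hr' x hx) (hg y hy)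
      exact (Commute.conj_iff g).1 this
    by_cases hsq : s = q
    · subst hsq
      obtain ⟨Q₀, hQ₀⟩ := hS₀p.exists_le_sylow
      have hQS : (Q₀ : Subgroup G) ⊓ L ≤ S₀ := by
        intro x hx
        have hp' : IsPGroup s (((Q₀ : Subgroup G) ⊓ L).subgroupOf L) :=
          (Q₀.isPGroup'.to_le inf_le_left).of_equiv (subgroupOfEquivOfLe inf_le_right).symm
        have h2 := S.3 hp' fun y hy => ⟨hQ₀ ⟨y, hy, rfl⟩, y.2⟩
        exact ⟨⟨x, hx.2⟩, h2.symm ▸ (mem_subgroupOf.2 hx : (⟨x, hx.2⟩ : L) ∈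
          ((Q₀ : Subgroup G) ⊓ L).subgroupOf L), rfl⟩
      obtain ⟨c, hcS, hcZ, hcQ⟩ := exists_central_mod Q₀.isPGroup' hS₀p (fun g hg =>
        mem_normalizer_fintype fun x hx => hQS ⟨mul_mem (mul_mem hg (hQ₀ hx)) ((Q₀ : Subgroup G).inv_mem hg),
          hLn.conj_mem x (hS₀L hx) g⟩) hS₀Z
      refine ⟨c, hreg c hcS, hcZ, 1, fun g hg => ?_⟩
      rw [one_mul, inv_one, mul_one]
      obtain ⟨r, hr, hrp, hrs, hact⟩ := hM s
      obtain ⟨y, hy, hyc, i, hi⟩ := exists_act_in_cent hp h (hreg c hcS) hcZ hr hrp hact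
      have hyr := regular_of_primeOrder hr hp hrp hi
      have hgy : g * y⁻¹ * g⁻¹ ∈ centralizer ({c} : Set G) :=
        (mem_normalizer_iff.1 (normalizer_cent_le (Q := (Q₀ : Subgroup G)) hcQ (hQ₀ hg)) y⁻¹).1
          ((centralizer ({c} : Set G)).inv_mem hy)
      have hordg : orderOf (g * y⁻¹ * g⁻¹) = r ^ i := by
        rw [← MulAut.conj_apply, MulEquiv.orderOf_eq, orderOf_inv, hi]
      have hcomm : Commute y (g * y⁻¹ * g⁻¹) :=
        commute_of_mem_cent hp h hM (hreg c hcS) hcZ hy hyr hgy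
      set w := y * (g * y⁻¹ * g⁻¹) with hw
      have hwr : w ^ r ^ i = 1 := by
        rw [hw, hcomm.mul_pow, orderOf_dvd_iff_pow_eq_one.1 hi.dvd,
          orderOf_dvd_iff_pow_eq_one.1 hordg.dvd, one_mul]
      have hwL : w ∈ L := by
        rw [hw, show y * (g * y⁻¹ * g⁻¹) = y * g * y⁻¹ * g⁻¹ by group]
        exact mul_mem (hLn.conj_mem g (hS₀L hg) y) (inv_mem (hS₀L hg))
      have hwK : w ∈ K := mem_of_coprime_order (hLK w hwL) (hwr ▸ one_mem K : w ^ r ^ i ∈ K)
        (Nat.Coprime.pow we i ((Nat.coprime_primes hs hr).2 hrs.symm))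
      have hwZ : w ∈ Z := mem_of_coprime_order (hKZ w hwK) (hwr ▸ one_mem Z : w ^ r ^ i ∈ Z)
        (Nat.Coprime.pow pe i ((Nat.coprime_primes hp hr).2 hrp.symm))
      obtain ⟨n, hn⟩ := IsPGroup.iff_orderOf.1 hS₀p ⟨g, hg⟩
      rw [Subgroup.orderOf_mk] at hn
      have hyg : y * g * y⁻¹ = w * g := by rw [hw]; group
      have hws : w ^ s ^ n = 1 := by
        have e := congrArg (· ^ s ^ n) hyg
        simp only [conj_pow, orderOf_dvd_iff_pow_eq_one.1 hn.dvd, mul_one, mul_inv_cancel,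
          (show Commute w g from (Subgroup.mem_center_iff.1 hwZ g).symm).mul_pow] at e
        exact e.symm
      have hw1 : w = 1 := by
        rw [← pow_one w, ← (Nat.Coprime.pow i n ((Nat.coprime_primes hr hs).2 hrs)).gcd_eq_one]
        exact pow_gcd_eq_one.2 ⟨hwr, hws⟩
      rw [hw1, one_mul, mul_inv_eq_iff_eq_mul] at hyg
      rw [cent_eq_of_commute hp h hM (hreg c hcS) hcZ hyr hyc (H27.mem_cent_comm.1 hy)]
      exact H27.mem_cent.2 hyg.symm
    · have hsm : ¬ s ∣ (centralizer ({b} : Set G)).index := by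
        rw [h b (hreg b hb) hbc]
        exact fun e => (honly s hs e).elim hsp hsq
      obtain ⟨S₁, hS₁⟩ := H27.exists_sylow_le_of_not_dvd_index hsm
      obtain ⟨S₂, hS₂⟩ := hS₀p.exists_le_sylow
      obtain ⟨g, hg⟩ := MulAction.exists_smul_eq G S₂ S₁
      refine ⟨b, hreg b hb, hbc, g, fun x hx => hS₁ ?_⟩
      rw [← hg, Sylow.coe_subgroup_smul, ← MulAut.conj_apply]
      exact Subgroup.smul_mem_pointwise_smul _ _ _ (hS₂ hx)
  refine false_of_frattini hp h hM hq hqp hqm honly hs hsp hS₀p hSc hb hbc ?_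
  refine top_le_iff.1 ((Sylow.normalizer_sup_eq_top S).ge.trans (sup_le le_sup_right ?_))
  refine hLS.trans (sup_le (sup_le le_sup_left (le_trans ?_ le_sup_right))
    (le_normalizer.trans le_sup_right))
  exact center_le_normalizer _

end H2.RegTwoSizes
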